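import Cfsg.Agent.Lib.LyFusion.Main
import Cfsg.Agent.Lib.LyIndex.Simple

/-!
# Transport to groups isomorphic to the presented Lyons group
-/

set_option autoImplicit false

namespace CfsgLib.LyFusion

open Cfsg Cfsg.FusionSystem CfsgLib.Fusion

theorem isSimple_isoLy {t : Cfsg.Spor.Ly} (ht : orderOf t = 2)
    (hC : IsNonsplitDoubleCover (Subgroup.centralizer ({t} : Set Cfsg.Spor.Ly))
      (alternatingGroup (Fin 11)))
    {G : Type*} [Group G] [Finite G] (hG : Cfsg.Spor.IsoLy G) (S : Sylow 2 G) :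
    (groupFusionSystem (S : Subgroup G)).IsSimple 2 := by
  obtain ⟨e⟩ := hG
  haveI := CfsgLib.LyIndex.ly_finite
  haveI := CfsgLib.LyIndex.ly_simple
  let S' : Sylow 2 Cfsg.Spor.Ly := S.mapSurjective (f := e.toMonoidHom) e.surjective
  refine (AltSimple.transported_groupFusion_mulEquiv e.symm
    (S := (S' : Subgroup Cfsg.Spor.Ly)) (S' := (S : Subgroup G)) ?_).isSimple S'.2
    (isSimple_of_centralizer CfsgLib.LyIndex.ly_card ht hC S')
  show ((S : Subgroup G).map e.toMonoidHom).map e.symm.toMonoidHom = _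
  rw [Subgroup.map_map, MulEquiv.toMonoidHom_eq_coe, MulEquiv.toMonoidHom_eq_coe,
    show ((e.symm : Cfsg.Spor.Ly →* G).comp (e : G →* Cfsg.Spor.Ly)) = MonoidHom.id G from
      MonoidHom.ext fun x => e.symm_apply_apply x, Subgroup.map_id]

end CfsgLib.LyFusion
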